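import Groth.Agent.Lib.FppfQuot.Basic
import Groth.Agent.Lib.AlgSp.SourceLocal

/-!
Quotients by stages: `(G/H)/(K/H) = G/K`.
-/

universe u

open CategoryTheory CategoryTheory.Limits MonoidalCategory CartesianMonoidalCategory MonObj GrpObj
open AlgebraicGeometry

namespace GrothLib.FppfQuot

variable {S : Scheme.{u}}

theorem IsCover.comp {X Y Z : Over S} {f : X ⟶ Y} {g : Y ⟶ Z} (hf : IsCover f) (hg : IsCover g) :
    IsCover (f ≫ g) := by
  haveI := hf.1; haveI := hf.2.1; haveI := hf.2.2; haveI := hg.1; haveI := hg.2.1; haveI := hg.2.2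
  exact ⟨inferInstanceAs (Surjective (f.left ≫ g.left)), inferInstanceAs (Flat (f.left ≫ g.left)),
    inferInstanceAs (LocallyOfFinitePresentation (f.left ≫ g.left))⟩

/-- A point of the target of a covering lifts after a covering. -/
theorem IsCover.exists_lift {G Q : Over S} {q : G ⟶ Q} (hq : IsCover q) {Y : Over S} (x : Y ⟶ Q) :
    ∃ (Y' : Over S) (c : Y' ⟶ Y) (l : Y' ⟶ G), IsCover c ∧ l ≫ q = c ≫ x := by
  have sq := (IsPullback.of_hasPullback x q).map (Over.forget S)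
  exact ⟨Limits.pullback x q, pullback.fst x q, pullback.snd x q,
    ⟨MorphismProperty.of_isPullback (P := @Surjective) sq.flip hq.1,
      MorphismProperty.of_isPullback (P := @Flat) sq.flip hq.2.1,
      MorphismProperty.of_isPullback (P := @LocallyOfFinitePresentation) sq.flip hq.2.2⟩,
    pullback.condition.symm⟩

theorem isPullback_of_points {P X Y Z : Over S} {f : P ⟶ X} {g : P ⟶ Y} {p : X ⟶ Z} {q : Y ⟶ Z}
    (hw : f ≫ p = g ≫ q)
    (h : ∀ {W : Over S} (a : W ⟶ X) (b : W ⟶ Y), a ≫ p = b ≫ q → ∃! z : W ⟶ P, z ≫ f = a ∧ z ≫ g = b) :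
    IsPullback f g p q := by
  refine ⟨⟨hw⟩, ⟨PullbackCone.IsLimit.mk _ (fun s => (h _ _ s.condition).exists.choose)
    (fun s => (h _ _ s.condition).exists.choose_spec.1) (fun s => (h _ _ s.condition).exists.choose_spec.2)
    (fun s m h1 h2 => (h _ _ s.condition).unique ⟨h1, h2⟩ (h _ _ s.condition).exists.choose_spec)⟩⟩

variable {H K G QH Kb : Over S} [GrpObj H] [GrpObj K] [GrpObj G]
  {h : H ⟶ K} {k : K ⟶ G} [IsMonHom h] [IsMonHom k] [Mono k]
  {qH : G ⟶ QH} (hqH : RedSub.IsQuotient (h ≫ k) qH) {qKb : K ⟶ Kb} (hqKb : RedSub.IsQuotient h qKb)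
  {act : QH ⊗ Kb ⟶ QH} (hact : (qH ⊗ₘ qKb) ≫ act = (G ◁ k) ≫ μ[G] ≫ qH)

omit [IsMonHom h] [IsMonHom k] [Mono k] in
include hact in
theorem act_apply {Y : Over S} (a : Y ⟶ G) (κ : Y ⟶ K) :
    lift (a ≫ qH) (κ ≫ qKb) ≫ act = (a * (κ ≫ k)) ≫ qH := by
  have h1 := congrArg (lift a κ ≫ ·) hact
  rw [lift_map_assoc] at h1
  rw [h1, ← Category.assoc (G ◁ k), ← Category.assoc (lift a κ), CartQuot.comp_act, lift_fst, lift_snd_assoc]

include hqH hqKb hact in
theorem act_cancel {W : Over S} (a : W ⟶ QH) (x x' : W ⟶ Kb) (he : lift a x ≫ act = lift a x' ≫ act) :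
    x = x' := by
  obtain ⟨W₁, c₁, ã, hc₁, ha⟩ := (isCover_of_isQuotient hqH).exists_lift a
  obtain ⟨W₂, c₂, κ, hc₂, hκ⟩ := (isCover_of_isQuotient hqKb).exists_lift (c₁ ≫ x)
  obtain ⟨W₃, c₃, κ', hc₃, hκ'⟩ := (isCover_of_isQuotient hqKb).exists_lift (c₂ ≫ c₁ ≫ x')
  haveI : Epi (c₃ ≫ c₂ ≫ c₁) := (hc₃.comp (hc₂.comp hc₁)).epi
  rw [← cancel_epi (c₃ ≫ c₂ ≫ c₁)]
  have h1 := congrArg ((c₃ ≫ c₂ ≫ c₁) ≫ ·) he
  simp only [← Category.assoc (c₃ ≫ c₂ ≫ c₁), comp_lift] at h1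
  have ea : (c₃ ≫ c₂ ≫ c₁) ≫ a = (c₃ ≫ c₂ ≫ ã) ≫ qH := by simp only [Category.assoc, ha]
  have ex : (c₃ ≫ c₂ ≫ c₁) ≫ x = (c₃ ≫ κ) ≫ qKb := by simp only [Category.assoc, hκ]
  have ex' : (c₃ ≫ c₂ ≫ c₁) ≫ x' = κ' ≫ qKb := by simp only [Category.assoc, hκ']
  rw [ea, ex, ex', act_apply hact, act_apply hact, comp_eq_iff hqH] at h1
  obtain ⟨η', hη⟩ := h1
  rw [_root_.mul_assoc, show η' ≫ h ≫ k = (η' ≫ h) ≫ k from (Category.assoc _ _ _).symm, ← MonObj.mul_comp] at hη
  rw [ex, ex', comp_eq_iff hqKb]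
  exact ⟨η', (cancel_mono k).1 (mul_left_cancel hη)⟩

include hqH hqKb hact in
/-- The induced map between quotients is a covering with the expected fibres. -/
theorem stages {QK : Over S} {qK : G ⟶ QK} (hqK : RedSub.IsQuotient k qK) (qbar : QH ⟶ QK)
    (hqbar : qH ≫ qbar = qK) :
    Surjective qbar.left ∧ Flat qbar.left ∧ LocallyOfFinitePresentation qbar.left ∧
      IsPullback (fst QH Kb) act qbar qbar := by
  obtain ⟨hs, hf, hl, -⟩ := id hqH
  haveI := hs; haveI := hf; haveI := hl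
  have hq : qH.left ≫ qbar.left = qK.left := congrArg Over.Hom.left hqbar
  have hcK := isCover_of_isQuotient hqK
  refine ⟨?_, GrothLib.AlgSp.srcDescends_flat qH.left qbar.left hf hs (hq ▸ hcK.2.1),
    GrothLib.FppfSource.fppfSourceDescends_lfp qH.left qbar.left hf hl hs (hq ▸ hcK.2.2), ?_⟩
  · haveI : Surjective (qH.left ≫ qbar.left) := hq ▸ hcK.1
    exact Surjective.of_comp qH.left qbar.left
  refine isPullback_of_points ?_ fun {W} a b hab => ?_
  · haveI : Epi (qH ⊗ₘ qKb) := ((isCover_of_isQuotient hqH).tensor (isCover_of_isQuotient hqKb)).epi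
    rw [← cancel_epi (qH ⊗ₘ qKb), ← Category.assoc, tensorHom_fst, reassoc_of% hact, Category.assoc, hqbar]
    exact hqK.2.2.2.w
  · obtain ⟨W₁, c₁, ã, hc₁, ha⟩ := (isCover_of_isQuotient hqH).exists_lift a
    obtain ⟨W₂, c₂, b', hc₂, hb⟩ := (isCover_of_isQuotient hqH).exists_lift (c₁ ≫ b)
    have hcov := hc₂.comp hc₁
    have h1 : (c₂ ≫ ã) ≫ qK = b' ≫ qK := by
      rw [← hqbar, ← Category.assoc, ← Category.assoc b', hb, Category.assoc c₂, ha]
      simp only [Category.assoc, hab]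
    obtain ⟨κ, hκ⟩ := (comp_eq_iff hqK _ _).1 h1
    have hloc : lift ((c₂ ≫ c₁) ≫ a) (κ ≫ qKb) ≫ act = (c₂ ≫ c₁) ≫ b := by
      rw [show (c₂ ≫ c₁) ≫ a = (c₂ ≫ ã) ≫ qH by simp only [Category.assoc, ha], act_apply hact, ← hκ, hb,
        Category.assoc]
    obtain ⟨x, hx⟩ := hcov.desc (κ ≫ qKb) fun {V} s t hst => by
      refine act_cancel hqH hqKb hact (s ≫ (c₂ ≫ c₁) ≫ a) _ _ ?_
      have e1 := congrArg (s ≫ ·) hloc
      have e2 := congrArg (t ≫ ·) hloc
      simp only [← Category.assoc s, ← Category.assoc t, comp_lift] at e1 e2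
      simp only [← Category.assoc]
      simp only [← Category.assoc] at e1 e2 hst
      rw [hst] at e1 ⊢
      exact e1.trans e2.symm
    refine ⟨lift a x, ⟨lift_fst _ _, ?_⟩, fun z hz => ?_⟩
    · haveI := hcov.epi
      rw [← cancel_epi (c₂ ≫ c₁), ← Category.assoc, comp_lift, hx, hloc]
    · have hz1 : z = lift a (z ≫ snd QH Kb) := by
        apply CartesianMonoidalCategory.hom_ext
        · rw [lift_fst]; exact hz.1
        · rw [lift_snd]
      rw [hz1]
      congr 1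
      refine act_cancel hqH hqKb hact a _ _ ?_
      rw [← hz1, hz.2]
      haveI := hcov.epi
      rw [← cancel_epi (c₂ ≫ c₁), ← Category.assoc _ (lift a x), comp_lift, hx, hloc]

include hqH hqKb hact in
/-- A covering with the expected fibres gives the quotient by the bigger subgroup. -/
theorem stages_converse {Y : Over S} (p : QH ⟶ Y) (hp : IsCover p) (hsq : IsPullback (fst QH Kb) act p p) :
    RedSub.IsQuotient k (qH ≫ p) := by
  obtain ⟨h1, h2, h3⟩ := (isCover_of_isQuotient hqH).comp hp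
  refine ⟨h1, h2, h3, isPullback_of_points ?_ fun {W} a b hab => ?_⟩
  · rw [Category.assoc, ← reassoc_of% hact, ← hsq.w, tensorHom_fst_assoc]
  · rw [← Category.assoc, ← Category.assoc] at hab
    let z := hsq.lift (a ≫ qH) (b ≫ qH) hab
    obtain ⟨W₁, c, κ, hc, hκ⟩ := (isCover_of_isQuotient hqKb).exists_lift (z ≫ snd QH Kb)
    have hz : z = lift (a ≫ qH) (z ≫ snd QH Kb) := by
      apply CartesianMonoidalCategory.hom_ext
      · rw [lift_fst]; exact hsq.lift_fst _ _ hab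
      · rw [lift_snd]
    have h4 : ((c ≫ a) * (κ ≫ k)) ≫ qH = (c ≫ b) ≫ qH := by
      rw [← act_apply hact, hκ, Category.assoc c a, ← comp_lift, ← hz, Category.assoc, hsq.lift_snd, Category.assoc]
    obtain ⟨η', hη⟩ := (comp_eq_iff hqH _ _).1 h4
    rw [_root_.mul_assoc, show η' ≫ h ≫ k = (η' ≫ h) ≫ k from (Category.assoc _ _ _).symm, ← MonObj.mul_comp] at hη
    obtain ⟨κ₀, hκ₀⟩ := hc.desc (κ * (η' ≫ h)) fun {V} s t hst => by
      rw [← cancel_mono k]
      have key : ∀ r : V ⟶ W₁, (r ≫ c) ≫ b = ((r ≫ c) ≫ a) * ((r ≫ (κ * (η' ≫ h))) ≫ k) := fun r => by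
        rw [Category.assoc, hη, MonObj.comp_mul, Category.assoc, Category.assoc]
      have e1 := key s
      rw [hst, key t] at e1
      exact (mul_left_cancel e1).symm
    have hb : b = a * (κ₀ ≫ k) := by
      haveI := hc.epi
      rw [← cancel_epi c, MonObj.comp_mul, ← Category.assoc c κ₀, hκ₀, hη]
    refine ⟨lift a κ₀, ⟨lift_fst _ _, ?_⟩, fun z' hz' => ?_⟩
    · rw [CartQuot.comp_act, lift_fst, lift_snd_assoc, ← hb]
    · apply CartesianMonoidalCategory.hom_ext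
      · rw [lift_fst]; exact hz'.1
      · rw [lift_snd]
        have e := hz'.2
        rw [CartQuot.comp_act, hz'.1, hb, ← Category.assoc] at e
        exact (cancel_mono k).1 (mul_left_cancel e)

end GrothLib.FppfQuot
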